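import Cfsg.Agent.H492.ThRat
import Cfsg.Agent.H492.IMCTh
import Cfsg.Agent.H491.PB.ThD
import Cfsg.Agent.H788.RatB.Rat_m3
import Cfsg.Agent.FastGrp
import Cfsg.Agent.Prune
set_option linter.all false
prune_inst 0x7f00000000000000000000000000000000000000000000000000000000000000000000000000000000000000000000000000000000000000000000000000000000000000000000000000000000000000003ffff7ffffffffffffffffffffffbeffbdefffffff
open scoped Cfsg.Agent.FastGrp

/-!
# S4891, the sporadic row `Th` (helper978)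

The rational character of degree `4123 = 7·19·31` (`p = 3, 5`), the rational character of degree
`30875` (`p = 7`); no element of prime order `≠ p` centralizes a Sylow `p`-subgroup.
-/

set_option autoImplicit false

namespace Cfsg.Agent.H978.RatB

open Subgroup Cfsg Cfsg.Agent.H493.RatB Cfsg.Agent.H492.IMCTh

universe u

theorem exists_of_val {n : ℕ} (h : ∃ χ : IrrCharacter Spor.Th, (χ : Spor.Th → ℂ) 1 = (n : ℕ) ∧
    ∀ σ : ℂ →+* ℂ, ∀ x, σ ((χ : Spor.Th → ℂ) x) = (χ : Spor.Th → ℂ) x) :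
    ∃ χ : IrrCharacter Spor.Th, charDegree (χ : Spor.Th → ℂ) = n ∧ RatV (χ : Spor.Th → ℂ) := by
  have := fin_th
  obtain ⟨χ, h1, h2⟩ := h
  refine ⟨χ, Cfsg.Agent.H670.PSing.charDegree_eq_of h1, fun g => ?_⟩
  have hint : IsIntegral ℚ ((χ : Spor.Th → ℂ) g) :=
    (Cfsg.Agent.CharactersDeep.ModCongr.isIntegral_irr χ.2 g).tower_top
  exact Cfsg.Agent.Characters.GaloisBasic.exists_rat_of_forall_ringEquiv hint fun σ => h2 (σ : ℂ →+* ℂ) g

theorem exists_4123 : ∃ χ : IrrCharacter Spor.Th, charDegree (χ : Spor.Th → ℂ) = 4123 ∧ RatV (χ : Spor.Th → ℂ) :=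
  exists_of_val Cfsg.Agent.H492.ThRat.val_4123

theorem exists_30875 : ∃ χ : IrrCharacter Spor.Th, charDegree (χ : Spor.Th → ℂ) = 30875 ∧ RatV (χ : Spor.Th → ℂ) :=
  exists_of_val Cfsg.Agent.H492.ThRat.val_30875

/-- a subgroup of order divisible by the full power of `p` meets the class of every `p`-element -/
theorem exists_conj_mem {G : Type*} [Group G] [Finite G] {p a : ℕ} [hp : Fact p.Prime] {H : Subgroup G}
    (ha : ¬ p ^ (a + 1) ∣ Nat.card G) (hH : p ^ a ∣ Nat.card H) {x : G} (hx : orderOf x = p) :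
    ∃ g : G, g * x * g⁻¹ ∈ H := by
  obtain ⟨Q⟩ : Nonempty (Sylow p H) := inferInstance
  have hQ : ¬ p ∣ (Q.1.map H.subtype).index := by
    intro h
    apply ha
    have h1 : Nat.card (Q.1.map H.subtype) = Nat.card Q := Subgroup.card_map_of_injective H.subtype_injective
    have h2 : p ^ a ∣ Nat.card Q := by
      rw [Sylow.card_eq_multiplicity]
      exact pow_dvd_pow p (((hp.out.pow_dvd_iff_le_factorization Nat.card_pos.ne').1 hH))
    have h3 := (Q.1.map H.subtype).card_mul_index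
    rw [← h3, pow_succ, h1]
    exact mul_dvd_mul h2 h
  obtain ⟨P, hP⟩ : ∃ P : Sylow p G, (P : Subgroup G) = Q.1.map H.subtype := by
    have h4 : IsPGroup p (Q.1.map H.subtype) := Q.2.map _
    obtain ⟨P, hP⟩ := h4.exists_le_sylow
    refine ⟨P, le_antisymm ?_ hP⟩
    have h5 : (Q.1.map H.subtype).relIndex P = 1 := by
      by_contra h6
      have h7 : (Q.1.map H.subtype).relIndex P ∣ Nat.card P := Subgroup.relIndex_dvd_card _ _
      obtain ⟨k, hk⟩ := IsPGroup.iff_card.1 P.2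
      have hk' : Nat.card P = p ^ k := hk
      rw [hk'] at h7
      obtain ⟨j, -, hj⟩ := (Nat.dvd_prime_pow hp.out).1 h7
      have hj0 : j ≠ 0 := by
        rintro rfl
        exact h6 (by rw [hj, pow_zero])
      apply hQ
      refine (Dvd.dvd.trans ?_ (Subgroup.relIndex_dvd_index_of_le hP))
      rw [hj]
      exact dvd_pow_self p hj0
    exact Subgroup.relIndex_eq_one.1 h5
  obtain ⟨R, hR⟩ := (IsPGroup.of_card (n := 1) (by rw [Nat.card_zpowers, hx, pow_one]) :
    IsPGroup p (zpowers x)).exists_le_sylow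
  obtain ⟨g, hg⟩ := MulAction.exists_smul_eq G R P
  refine ⟨g, ?_⟩
  have h1 : g * x * g⁻¹ ∈ (P : Subgroup G) := by
    rw [← hg]
    exact Subgroup.smul_mem_pointwise_smul x (MulAut.conj g) _ (hR (mem_zpowers x))
  rw [hP] at h1
  obtain ⟨y, -, hy⟩ := h1
  rw [← hy]
  exact y.2

theorem dvd_cent_conj {G : Type*} [Group G] [Finite G] {x y g : G}
    (h : g * x * g⁻¹ ∈ centralizer ({y} : Set G)) : orderOf y ∣ Nat.card (centralizer ({x} : Set G)) := by
  have h1 : g⁻¹ * y * g ∈ centralizer ({x} : Set G) := by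
    rw [mem_centralizer_singleton_iff] at h ⊢
    calc g⁻¹ * y * g * x = g⁻¹ * (y * (g * x * g⁻¹)) * g := by group
      _ = g⁻¹ * ((g * x * g⁻¹) * y) * g := by rw [h]
      _ = x * (g⁻¹ * y * g) := by group
  have h2 : orderOf (g⁻¹ * y * g) = orderOf y := by
    have h3 : g⁻¹ * y * g = MulAut.conj g⁻¹ y := by rw [MulAut.conj_apply, inv_inv]
    rw [h3]
    exact MulEquiv.orderOf_eq _ y
  rw [← h2]
  exact Subgroup.orderOf_dvd_natCard _ h1

theorem three [Fact (Nat.Prime 3)] {y : Spor.Th} (hy : (orderOf y).Prime) (hy3 : orderOf y ≠ 3) :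
    ¬ 3 ^ 10 ∣ Nat.card (centralizer ({y} : Set Spor.Th)) := by
  have := fin_th
  intro h
  obtain ⟨g, hg⟩ := exists_conj_mem (p := 3) (a := 10) (x := x3) (by rw [card_th]; norm_num) h x3_order
  have h1 := (dvd_cent_conj hg).trans x3_cent_dvd
  have h2 : orderOf y ∣ 2 ^ 7 * 3 ^ 10 * 5 * 7 := h1.trans (by norm_num)
  have hp := hy
  have h3 : orderOf y = 2 ∨ orderOf y = 5 ∨ orderOf y = 7 := by
    rcases (hp.dvd_mul).1 h2 with h4 | h4
    · rcases (hp.dvd_mul).1 h4 with h5 | h5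
      · rcases (hp.dvd_mul).1 h5 with h6 | h6
        · exact Or.inl ((Nat.prime_dvd_prime_iff_eq hp Nat.prime_two).1 (hp.dvd_of_dvd_pow h6))
        · exact (hy3 ((Nat.prime_dvd_prime_iff_eq hp Nat.prime_three).1 (hp.dvd_of_dvd_pow h6))).elim
      · exact Or.inr (Or.inl ((Nat.prime_dvd_prime_iff_eq hp Nat.prime_five).1 h5))
    · exact Or.inr (Or.inr ((Nat.prime_dvd_prime_iff_eq hp (by norm_num)).1 h4))
  rcases h3 with h3 | h3 | h3
  · rw [Cfsg.Agent.MonsterX.ThOneClass.card_centralizer h3] at h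
    norm_num at h
  · rw [Cfsg.Agent.H502.TO.card_five h3] at h
    norm_num at h
  · rw [Cfsg.Agent.H491.PB.Th.card_seven h3] at h
    norm_num at h

theorem five [Fact (Nat.Prime 5)] {y : Spor.Th} (hy : (orderOf y).Prime) (hy5 : orderOf y ≠ 5) :
    ¬ 5 ^ 3 ∣ Nat.card (centralizer ({y} : Set Spor.Th)) := by
  have := fin_th
  intro h
  obtain ⟨x, hx⟩ := exists_prime_orderOf_dvd_card' (G := Spor.Th) 5 (by rw [card_th]; norm_num)
  obtain ⟨g, hg⟩ := exists_conj_mem (p := 5) (a := 3) (x := x) (by rw [card_th]; norm_num) h hx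
  have h1 := dvd_cent_conj hg
  rw [Cfsg.Agent.H502.TO.card_five hx] at h1
  have h2 : orderOf y ∣ 2 ^ 3 * 3 * 5 ^ 3 := h1.trans (by norm_num)
  have hp := hy
  have h3 : orderOf y = 2 ∨ orderOf y = 3 := by
    rcases (hp.dvd_mul).1 h2 with h4 | h4
    · rcases (hp.dvd_mul).1 h4 with h5 | h5
      · exact Or.inl ((Nat.prime_dvd_prime_iff_eq hp Nat.prime_two).1 (hp.dvd_of_dvd_pow h5))
      · exact Or.inr ((Nat.prime_dvd_prime_iff_eq hp Nat.prime_three).1 h5)
    · exact (hy5 ((Nat.prime_dvd_prime_iff_eq hp Nat.prime_five).1 (hp.dvd_of_dvd_pow h4))).elim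
  rcases h3 with h3 | h3
  · rw [Cfsg.Agent.MonsterX.ThOneClass.card_centralizer h3] at h
    norm_num at h
  · exact Cfsg.Agent.H491.PB.Th.not_25 h3 (Dvd.dvd.trans (by norm_num) h)

theorem seven [Fact (Nat.Prime 7)] {y : Spor.Th} (hy : (orderOf y).Prime) (hy7 : orderOf y ≠ 7) :
    ¬ 7 ^ 2 ∣ Nat.card (centralizer ({y} : Set Spor.Th)) := by
  have := fin_th
  intro h
  obtain ⟨x, hx⟩ := exists_prime_orderOf_dvd_card' (G := Spor.Th) 7 (by rw [card_th]; norm_num)
  obtain ⟨g, hg⟩ := exists_conj_mem (p := 7) (a := 2) (x := x) (by rw [card_th]; norm_num) h hx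
  have h1 := dvd_cent_conj hg
  rw [Cfsg.Agent.H491.PB.Th.card_seven hx] at h1
  have h2 : orderOf y ∣ 2 ^ 3 * 3 * 7 ^ 2 := h1.trans (by norm_num)
  have hp := hy
  have h3 : orderOf y = 2 ∨ orderOf y = 3 := by
    rcases (hp.dvd_mul).1 h2 with h4 | h4
    · rcases (hp.dvd_mul).1 h4 with h5 | h5
      · exact Or.inl ((Nat.prime_dvd_prime_iff_eq hp Nat.prime_two).1 (hp.dvd_of_dvd_pow h5))
      · exact Or.inr ((Nat.prime_dvd_prime_iff_eq hp Nat.prime_three).1 h5)
    · exact (hy7 ((Nat.prime_dvd_prime_iff_eq hp (by norm_num)).1 (hp.dvd_of_dvd_pow h4))).elim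
  rcases h3 with h3 | h3
  · rw [Cfsg.Agent.MonsterX.ThOneClass.card_centralizer h3] at h
    norm_num at h
  · exact Cfsg.Agent.H491.PB.Th.not_49 h3 (Dvd.dvd.trans (by norm_num) h)

theorem ne_one_of_deg {G : Type*} [Group G] {χ : G → ℂ} {n : ℕ} (h : charDegree χ = n) (hn : n ≠ 1) :
    χ ≠ fun _ => 1 := by
  rintro rfl
  apply hn
  rw [← h]
  exact Cfsg.Agent.Blocks.Basic.charDegree_of_eq (by simp)

/-- **the row `Th`, `p = 3`** -/
theorem th_three {S : Type u} [Group S] (h : Spor.IsoTh S) : WitR 3 S := by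
  obtain ⟨e⟩ := h
  have := fin_th
  have : Finite S := Finite.of_equiv _ e.symm.toEquiv
  have hf : Fact (Nat.Prime 3) := ⟨Nat.prime_three⟩
  obtain ⟨χ, hd, hr⟩ := exists_4123
  refine WitR.congr e (witR_of_card (a := 10) (by rw [card_th]; norm_num) (fun y hy hy3 => three hy hy3) χ
    (ne_one_of_deg hd (by norm_num)) (by rw [hd]; norm_num) hr)

/-- **the row `Th`, `p = 5`** -/
theorem th_five {S : Type u} [Group S] (h : Spor.IsoTh S) : WitR 5 S := by
  obtain ⟨e⟩ := h
  have := fin_th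
  have : Finite S := Finite.of_equiv _ e.symm.toEquiv
  have hf : Fact (Nat.Prime 5) := ⟨Nat.prime_five⟩
  obtain ⟨χ, hd, hr⟩ := exists_4123
  refine WitR.congr e (witR_of_card (a := 3) (by rw [card_th]; norm_num) (fun y hy hy3 => five hy hy3) χ
    (ne_one_of_deg hd (by norm_num)) (by rw [hd]; norm_num) hr)

/-- **the row `Th`, `p = 7`** -/
theorem th_seven {S : Type u} [Group S] (h : Spor.IsoTh S) : WitR 7 S := by
  obtain ⟨e⟩ := h
  have := fin_th
  have : Finite S := Finite.of_equiv _ e.symm.toEquiv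
  have hf : Fact (Nat.Prime 7) := ⟨by norm_num⟩
  obtain ⟨χ, hd, hr⟩ := exists_30875
  refine WitR.congr e (witR_of_card (a := 2) (by rw [card_th]; norm_num) (fun y hy hy3 => seven hy hy3) χ
    (ne_one_of_deg hd (by norm_num)) (by rw [hd]; norm_num) hr)

end Cfsg.Agent.H978.RatB
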